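import Groth.Agent.Lib.FormalColim28.GrFreePunct
import Groth.Agent.Lib.PicCohen27.GrReg
import Groth.Agent.Lib.ArtFun.PS
import Groth.Agent.Lib.RegSeq26.FlatBC
import Groth.Agent.Lib.PureLift25.Iso
import Groth.Agent.Lib.Depth.CM

/-!
# Full faithfulness along the zero section of a formal power series ring of depth two
-/

set_option autoImplicit false
set_option linter.style.haveILetI false
set_option linter.unusedSectionVars false
set_option backward.isDefEq.respectTransparency false
set_option backward.isDefEq.respectTransparency.types false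
set_option maxHeartbeats 800000

universe u

open CategoryTheory CategoryTheory.Limits AlgebraicGeometry TopologicalSpace IsLocalRing

noncomputable section

namespace Groth.Agent.PSLef28

open Groth.Agent Groth.Agent.M1 Groth.Agent.LocCohLib Groth.Agent.LocCohSheafLib Groth.Agent.InjHullLib
open Groth.Agent.ParaGr27 Groth.Agent.CIPic27

section General

variable {B : Type u} [CommRing B] [IsLocalRing B] [IsNoetherianRing B] {J : Ideal B}

theorem van2_Qn (hgr : GrFree J) (hd : ∀ i < 2, Van B (Qn J 0) i) : ∀ (n : ℕ) (i : ℕ), i < 2 → Van B (Qn J n) i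
  | 0 => hd
  | n + 1 => fun i hi => by
    obtain ⟨r, ⟨e⟩⟩ := hgr n
    exact subsingleton_mid _ (Gr J n).injective_subtype (red_surjective n) (exact_subtype_red n) i
      (@Equiv.subsingleton _ _ (hcongr _ i e).toEquiv (subsingleton_pi _ i _ (hd i hi) r)) (van2_Qn hgr hd n i hi)

/-- Vanishing at the closed point passes to an ideal meeting the support there. -/
theorem van_of_meets (I' : Ideal B) (hmeet : ∀ q : PrimeSpectrum B, I' ≤ q.asIdeal → J ≤ q.asIdeal → q.asIdeal = maximalIdeal B)
    (n : ℕ) (hd : ∀ i < 2, Van B (B ⧸ J ^ (n + 1)) i) :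
    ∀ i < 2, Subsingleton (LocCoh.H I' i (B ⧸ J ^ (n + 1))) := by
  let M := B ⧸ J ^ (n + 1)
  have hm : (2 : ℕ∞) ≤ LocCoh.idealDepth (maximalIdeal B) M :=
    (DepthLib.natCast_le_idealDepth_iff 2).2 ((vanishing_below_iff_of_support_eq (I := maximalIdeal B)
      (ModuleCat.of B M) (B ⧸ maximalIdeal B) (DepthLib.support_quotient _) 2).1 hd)
  have hI : (2 : ℕ∞) ≤ LocCoh.idealDepth I' M := by
    refine (DepthLib.natCast_le_idealDepth_iff_forall_localized 2).2 fun p hp => ?_
    by_cases hJ : J ≤ p.asIdeal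
    · exact (DepthLib.natCast_le_idealDepth_iff_forall_localized (I := maximalIdeal B) 2).1 hm p (hmeet p hp hJ).ge
    · haveI : Subsingleton (LocalizedModule p.asIdeal.primeCompl M) := Module.notMem_support_iff.1 fun h => hJ
        (p.isPrime.le_of_pow_le (n := n + 1) (le_trans (Ideal.annihilator_quotient (I := J ^ (n + 1))).ge
          (Module.annihilator_le_of_mem_support h)))
      exact le_top.trans_eq (DepthLib.idealDepth_of_smul_top_eq_top (Subsingleton.elim _ _)).symm
  exact (vanishing_below_iff_of_support_eq (I := I') (ModuleCat.of B M) (B ⧸ I')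
    (DepthLib.support_quotient _) 2).2 ((DepthLib.natCast_le_idealDepth_iff 2).1 hI)

/-- Full faithfulness on the complement of an ideal meeting the closed subscheme in its closed point. -/
theorem fullyFaithful_punctured [IsAdicComplete J B] (hgr : GrFree J) (hd : ∀ i < 2, Van B (Qn J 0) i) (I' : Ideal B)
    (hmeet : ∀ q : PrimeSpectrum B, I' ≤ q.asIdeal → J ≤ q.asIdeal → q.asIdeal = maximalIdeal B) :
    (FEt.restrict ((FSch.idealSpec B J).comap (LocCoh.puncturedOpen B I').ι).subschemeι).Full ∧
      (FEt.restrict ((FSch.idealSpec B J).comap (LocCoh.puncturedOpen B I').ι).subschemeι).Faithful := by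
  have hvan : ∀ n : ℕ, Subsingleton (LocCoh.H I' 0 (B ⧸ J ^ (n + 1))) ∧
      Subsingleton (LocCoh.H I' 1 (B ⧸ J ^ (n + 1))) := fun n => by
    have h := van_of_meets I' hmeet n (van2_Qn hgr hd n)
    exact ⟨h 0 (by omega), h 1 (by omega)⟩
  haveI := PunctFree27.quasiCompact_puncturedOpen I' (IsNoetherian.noetherian I')
  haveI : IsLocallyNoetherian (↑(LocCoh.puncturedOpen B I') : Scheme.{u}) :=
    LocallyOfFiniteType.isLocallyNoetherian (LocCoh.puncturedOpen B I').ι
  exact LefFEt11.fullyFaithful_restrict (I := (FSch.idealSpec B J).comap (LocCoh.puncturedOpen B I').ι)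
    (NFlatFormalH7.homToFormal_of_locFree _ rfl hvan)
    (NFlatFormalH7.homToFormal_structureModule _ rfl hvan)

variable (V : (Spec (CommRingCat.of B)).Opens)

/-- Full faithfulness on an open meeting the closed subscheme in its punctured spectrum. -/
theorem fullyFaithful_comap [IsAdicComplete J B] (hgr : GrFree J) (hd : ∀ i < 2, Van B (Qn J 0) i)
    (hV : ∀ y : PrimeSpectrum B, J ≤ y.asIdeal → ((y : Spec (CommRingCat.of B)) ∈ V ↔ y ≠ closedPoint B)) :
    (FEt.restrict ((FSch.idealSpec B J).comap V.ι).subschemeι).Full ∧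
      (FEt.restrict ((FSch.idealSpec B J).comap V.ι).subschemeι).Faithful := by
  let I' : Ideal B := PrimeSpectrum.vanishingIdeal ((V : Set (Spec (CommRingCat.of B)))ᶜ)
  have hI' : ∀ q : PrimeSpectrum B, I' ≤ q.asIdeal ↔ (q : Spec (CommRingCat.of B)) ∉ V := fun q => by
    have h : PrimeSpectrum.zeroLocus (I' : Set B) = ((V : Set (Spec (CommRingCat.of B)))ᶜ) := by
      rw [PrimeSpectrum.zeroLocus_vanishingIdeal_eq_closure, IsClosed.closure_eq]
      exact V.2.isClosed_compl
    exact (PrimeSpectrum.mem_zeroLocus q (I' : Set B)).symm.trans (Set.ext_iff.1 h q)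
  have hVeq : V = LocCoh.puncturedOpen B I' := by
    ext q
    exact (not_iff_comm.1 (hI' q).symm).symm.trans (not_congr (PrimeSpectrum.mem_zeroLocus q (I' : Set B))).symm
  have hmeet : ∀ q : PrimeSpectrum B, I' ≤ q.asIdeal → J ≤ q.asIdeal → q.asIdeal = maximalIdeal B := fun q h1 h2 => by
    by_contra hne
    exact (hI' q).1 h1 ((hV q h2).2 fun e => hne (congrArg PrimeSpectrum.asIdeal e))
  rw [hVeq]
  exact fullyFaithful_punctured hgr hd I' hmeet

end General

section PS

variable {A : Type u} [CommRing A] [IsNoetherianRing A] {d : ℕ}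

theorem isNoetherianRing_ps : IsNoetherianRing (MvPowerSeries (Fin d) A) := by
  let V := MvPolynomial.idealOfVars (Fin d) A
  haveI : IsNoetherianRing (AdicCompletion V (MvPolynomial (Fin d) A)) :=
    Compl.isNoetherianRing_adicCompletion V (MvPolynomial.idealOfVars_fg _ _)
  exact isNoetherianRing_of_ringEquiv _ (MvPowerSeries.toAdicCompletionAlgEquiv (Fin d) A).symm.toRingEquiv

theorem grFree_ps : GrFree (Ideal.span (Set.range fun i : Fin d => (MvPowerSeries.X i : MvPowerSeries (Fin d) A))) := by
  haveI : Module.Flat (MvPolynomial (Fin d) A) (MvPowerSeries (Fin d) A) :=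
    haveI : Module.Flat (MvPolynomial (Fin d) A)
        (AdicCompletion (MvPolynomial.idealOfVars (Fin d) A) (MvPolynomial (Fin d) A)) :=
      AdicCompletion.flat_of_isNoetherian _
    Module.Flat.of_linearEquiv (MvPowerSeries.toAdicCompletionAlgEquiv (Fin d) A).toLinearEquiv
  have h := RegSeq26.isQuasiRegular_of_flat (B := MvPowerSeries (Fin d) A) (PicCohen27.isQuasiRegular_X A d)
  rw [show (fun i : Fin d => algebraMap (MvPolynomial (Fin d) A) (MvPowerSeries (Fin d) A) (MvPolynomial.X i)) =
    fun i => MvPowerSeries.X i from funext fun i => MvPolynomial.coe_X i] at h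
  exact PicCohen27.grFree_of_quasiRegular _ h

theorem fullyFaithful [IsLocalRing A] (hA : (2 : ℕ∞) ≤ LocCoh.depth A A) [IsLocalRing (MvPowerSeries (Fin d) A)]
    (V : (Spec (CommRingCat.of (MvPowerSeries (Fin d) A))).Opens)
    (hV : ∀ y : Spec (CommRingCat.of (MvPowerSeries (Fin d) A)),
      (∀ i : Fin d, MvPowerSeries.X i ∈ (y : PrimeSpectrum (MvPowerSeries (Fin d) A)).asIdeal) →
      (y ∈ V ↔ y ≠ closedPoint (MvPowerSeries (Fin d) A))) :
    (FEt.restrict (pullback.fst V.ι (Spec.map (CommRingCat.ofHom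
      (MvPowerSeries.constantCoeff : MvPowerSeries (Fin d) A →+* A))))).Full ∧
    (FEt.restrict (pullback.fst V.ι (Spec.map (CommRingCat.ofHom
      (MvPowerSeries.constantCoeff : MvPowerSeries (Fin d) A →+* A))))).Faithful := by
  let B := MvPowerSeries (Fin d) A
  let c : B →+* A := MvPowerSeries.constantCoeff
  have hc : Function.Surjective c := fun a => ⟨MvPowerSeries.C a, MvPowerSeries.constantCoeff_C a⟩
  let J : Ideal B := Ideal.span (Set.range fun i : Fin d => (MvPowerSeries.X i : B))
  have hJc : J = RingHom.ker c := ArtFunLib.span_X_eq_ker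
  haveI : IsNoetherianRing B := isNoetherianRing_ps
  haveI : IsAdicComplete J B := ArtFunLib.isAdicComplete_span_X
  -- the depth of the closed subscheme
  let e : (B ⧸ J) ≃+* A := (Ideal.quotEquivOfEq hJc).trans (RingHom.quotientKerEquivOfSurjective hc)
  haveI : IsLocalRing (B ⧸ J) := e.symm.isLocalRing
  have hdepth : (2 : ℕ∞) ≤ LocCoh.depth (B ⧸ J) (B ⧸ J) := by
    rwa [LocCohZQ.depth_congr_semilinear e e.toAddEquiv fun r m => map_mul e r m]
  have hd : ∀ i < 2, Van B (Qn J 0) i := fun i hi => by
    have h1 : ∀ j < 2, Van B (B ⧸ J) j := (van_iff_natCast_le_depth 2).2 (by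
      rw [FlatDepth.depth_eq_of_surjective (A := B) (B := B ⧸ J) (M := B ⧸ J) Ideal.Quotient.mk_surjective]
      exact hdepth)
    exact @Equiv.subsingleton _ _ (hcongr _ i (Submodule.quotEquivOfEq _ _ (pow_one J))).toEquiv (h1 i hi)
  have hff := fullyFaithful_comap V grFree_ps hd fun y hy =>
    hV y fun i => hy (Ideal.subset_span ⟨i, rfl⟩)
  -- identification of the restriction
  let g := Spec.map (CommRingCat.ofHom c)
  haveI : IsClosedImmersion g := IsClosedImmersion.spec_of_surjective _ hc
  let p := pullback.fst V.ι g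
  have hker : p.ker = (FSch.idealSpec B J).comap V.ι := by
    rw [Scheme.IdealSheafData.ker_fst_of_isClosedImmersion]
    congr 1
    let ε : CommRingCat.of (B ⧸ J) ≅ CommRingCat.of A := e.toCommRingCatIso
    have hg : g = Spec.map ε.hom ≫ Spec.map (CommRingCat.ofHom (Ideal.Quotient.mk J)) := by
      rw [← Spec.map_comp]
      rfl
    rw [hg, Scheme.Hom.ker_comp_of_isIso]
    rfl
  rw [← hker] at hff
  obtain ⟨hfull, hfaith⟩ := hff
  haveI := hfull
  haveI := hfaith
  haveI := PureLift25.isEquivalence_restrict_of_isIso p.toImage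
  have hp : p.toImage ≫ p.ker.subschemeι = p := p.toImage_imageι
  let η : FEt.restrict p ≅ FEt.restrict p.ker.subschemeι ⋙ FEt.restrict p.toImage :=
    MorphismProperty.Over.pullbackCongr hp.symm ≪≫ Pur25.restrictComp p.toImage p.ker.subschemeι
  exact ⟨Functor.Full.of_iso η.symm, Functor.Faithful.of_iso η.symm⟩

end PS

end Groth.Agent.PSLef28
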